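import Groth.Agent.Lib.AdicSmooth.SmallExt
import Groth.Agent.Lib.AdicSmooth.FormallySmoothLocal
import Groth.Agent.Lib.AdicSmooth.Jacobian
import Groth.Agent.Lib.Descend.BaseChangeAt
import Groth.Agent.Lib.Descend.PointLocal
import Groth.Agent.Lib.EtaleNhd17.Basic
import Mathlib.RingTheory.DualNumber
import Mathlib.RingTheory.LocalRing.Module
import Mathlib.AlgebraicGeometry.Noetherian

/-!
# Smooth and etale points through lifting to Artinian rings
-/

set_option autoImplicit false

universe u

open IsLocalRing CategoryTheory AlgebraicGeometry TensorProduct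

set_option backward.isDefEq.respectTransparency.types false

namespace Groth.Agent.ArtinCrit5

/-- Local tests with trivial residue extension lift along `φ`. -/
def Lifts {O O' : Type u} [CommRing O] [CommRing O'] [IsLocalRing O] [IsLocalRing O'] (φ : O →+* O') : Prop :=
  ∀ (A' : Type u) [CommRing A'] [IsLocalRing A'] [IsArtinianRing A']
    (h : O →+* A') [IsLocalHom h]
    (I : Ideal A') (_ : I ≠ ⊤) (_ : I * maximalIdeal A' = ⊥)
    (g₀ : O' →+* A' ⧸ I),
    g₀.comp φ = (Ideal.Quotient.mk I).comp h →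
    (∀ b ∈ maximalIdeal O', g₀ b ∈ (maximalIdeal A').map (Ideal.Quotient.mk I)) →
    (∀ a' : A', ∃ b : O', g₀ b - Ideal.Quotient.mk I a' ∈ (maximalIdeal A').map (Ideal.Quotient.mk I)) →
    ∃ g : O' →+* A', g.comp φ = h ∧ (Ideal.Quotient.mk I).comp g = g₀

/-- Such lifts are unique. -/
def LiftsUnique {O O' : Type u} [CommRing O] [CommRing O'] [IsLocalRing O] [IsLocalRing O'] (φ : O →+* O') : Prop :=
  ∀ (A' : Type u) [CommRing A'] [IsLocalRing A'] [IsArtinianRing A']
    (h : O →+* A') [IsLocalHom h]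
    (I : Ideal A') (_ : I ≠ ⊤) (_ : I * maximalIdeal A' = ⊥)
    (g₁ g₂ : O' →+* A'),
    g₁.comp φ = h → g₂.comp φ = h → (Ideal.Quotient.mk I).comp g₁ = (Ideal.Quotient.mk I).comp g₂ →
    (∀ b ∈ maximalIdeal O', Ideal.Quotient.mk I (g₁ b) ∈ (maximalIdeal A').map (Ideal.Quotient.mk I)) →
    (∀ a' : A', ∃ b : O', Ideal.Quotient.mk I (g₁ b) - Ideal.Quotient.mk I a' ∈
      (maximalIdeal A').map (Ideal.Quotient.mk I)) → g₁ = g₂

theorem sq_eq_bot {A : Type u} [CommRing A] [IsLocalRing A] {I : Ideal A} (hI : I ≠ ⊤)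
    (h : I * maximalIdeal A = ⊥) : I ^ 2 = ⊥ := by
  rw [eq_bot_iff, pow_two, ← h]
  exact Ideal.mul_mono_right (IsLocalRing.le_maximalIdeal hI)

variable {O O' : Type u} [CommRing O] [CommRing O'] [IsLocalRing O] [IsLocalRing O'] (φ : O →+* O')

theorem lifts_of_formallySmooth (hφ : φ.FormallySmooth) : Lifts φ := by
  intro A' _ _ _ h _ I hI hIm g₀ hg₀ _ _
  algebraize [φ]
  letI := h.toAlgebra
  haveI : Algebra.FormallySmooth O O' := hφ
  let g₀A : O' →ₐ[O] A' ⧸ I := { g₀ with commutes' := fun a => RingHom.congr_fun hg₀ a }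
  let g := Algebra.FormallySmooth.lift I ⟨2, sq_eq_bot hI hIm⟩ g₀A
  exact ⟨g.toRingHom, g.comp_algebraMap, RingHom.ext fun b => Algebra.FormallySmooth.mk_lift I ⟨2, sq_eq_bot hI hIm⟩ g₀A b⟩

theorem liftsUnique_of_formallyUnramified (hφ : φ.FormallyUnramified) : LiftsUnique φ := by
  intro A' _ _ _ h _ I hI hIm g₁ g₂ h₁ h₂ he _ _
  algebraize [φ]
  letI := h.toAlgebra
  haveI : Algebra.FormallyUnramified O O' := hφ
  let G₁ : O' →ₐ[O] A' := { g₁ with commutes' := fun a => RingHom.congr_fun h₁ a }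
  let G₂ : O' →ₐ[O] A' := { g₂ with commutes' := fun a => RingHom.congr_fun h₂ a }
  have := Algebra.FormallyUnramified.comp_injective I (sq_eq_bot hI hIm) (a₁ := G₁) (a₂ := G₂)
    (AlgHom.ext fun b => RingHom.congr_fun he b)
  exact RingHom.ext fun b => DFunLike.congr_fun this b

theorem smallLifts_of_iso {Ap Bq : Type u} [CommRing Ap] [CommRing Bq] [IsLocalRing Ap] [IsLocalRing Bq]
    [Algebra Ap Bq] (e : O ≃+* Ap) (e' : O' ≃+* Bq) (hc : ∀ a, e' (φ a) = algebraMap Ap Bq (e a))
    (H : Lifts φ) : AdicSmooth.SmallLifts Ap Bq := by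
  intro A _ _ _ _ hloc J hJ2 hlen _ ψ hψ hres
  haveI : IsSimpleModule A J := Module.length_eq_one_iff.1 hlen
  haveI : Nontrivial J := IsSimpleModule.nontrivial A J
  have hJtop : J ≠ ⊤ := Ideal.Quotient.nontrivial_iff.1 inferInstance
  have hJm : J * maximalIdeal A = ⊥ := by
    rcases (isSimpleModule_iff_isAtom.1 ‹IsSimpleModule A J›).le_iff.1
      (Ideal.mul_le_left : J * maximalIdeal A ≤ J) with h | h
    · exact h
    · exfalso
      have hb : J = ⊥ := Submodule.eq_bot_of_le_smul_of_le_jacobson_bot (maximalIdeal A) J (IsNoetherian.noetherian J)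
        (by rw [smul_eq_mul, mul_comm]; exact h.ge) (IsLocalRing.maximalIdeal_le_jacobson _)
      subst hb
      exact false_of_nontrivial_of_subsingleton (⊥ : Ideal A)
  have hm : (maximalIdeal A).map (Ideal.Quotient.mk J) = maximalIdeal (A ⧸ J) :=
    IsLocalRing.map_maximalIdeal_of_surjective _ Ideal.Quotient.mk_surjective
  haveI : IsLocalHom e.toRingHom := ⟨fun a ha => (isUnit_map_iff e a).1 ha⟩
  haveI : IsLocalHom ((algebraMap Ap A).comp e.toRingHom) := RingHom.isLocalHom_comp _ _
  obtain ⟨g, hg1, hg2⟩ := H A ((algebraMap Ap A).comp e.toRingHom) J hJtop hJm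
    (ψ.toRingHom.comp e'.toRingHom) (RingHom.ext fun a => by
      show ψ (e' (φ a)) = Ideal.Quotient.mk J (algebraMap Ap A (e a))
      rw [hc, ψ.commutes]; rfl)
    (fun b hb => by
      rw [hm]
      exact map_nonunit ψ.toRingHom _ (map_nonunit (e' : O' →+* Bq) b hb))
    (fun a' => by
      obtain ⟨z, hz⟩ := hres.2 (residue _ (Ideal.Quotient.mk J a'))
      obtain ⟨b, rfl⟩ := residue_surjective z
      refine ⟨e'.symm b, ?_⟩
      rw [ResidueField.map_residue] at hz
      rw [hm, ← residue_eq_zero_iff, map_sub, sub_eq_zero, ← hz]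
      simp)
  refine ⟨{ g.comp e'.symm.toRingHom with commutes' := fun a => ?_ }, AlgHom.ext fun b => ?_⟩
  · show g (e'.symm (algebraMap Ap Bq a)) = algebraMap Ap A a
    rw [← e.apply_symm_apply a, ← hc, e'.symm_apply_apply]
    exact RingHom.congr_fun hg1 _
  · show Ideal.Quotient.mk J (g (e'.symm b)) = ψ b
    rw [← e'.apply_symm_apply b]
    simpa using RingHom.congr_fun hg2 (e'.symm b)

theorem formallyUnramified_of_liftsUnique [Algebra O O'] [Algebra.EssFiniteType O O'] [IsLocalHom (algebraMap O O')]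
    (H : LiftsUnique (algebraMap O O')) : Algebra.FormallyUnramified O O' := by
  let κ := ResidueField O'
  have hder : ∀ d : Derivation O O' κ, d = 0 := by
    intro d
    let A' := TrivSqZeroExt κ κ
    haveI : IsArtinianRing (TrivSqZeroExt κ κ) :=
      haveI : Module.Finite κ (TrivSqZeroExt κ κ) :=
        inferInstanceAs (Module.Finite κ (κ × κ))
      IsArtinianRing.of_finite κ _
    haveI : IsLocalRing (TrivSqZeroExt κ κ) := inferInstanceAs (IsLocalRing (DualNumber κ))
    let g₁ : O' →+* TrivSqZeroExt κ κ := (TrivSqZeroExt.inlHom κ κ).comp (residue O')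
    let g₂ : O' →+* TrivSqZeroExt κ κ :=
      { toFun := fun b => TrivSqZeroExt.inl (residue O' b) + TrivSqZeroExt.inr (d b)
        map_one' := by
          ext
          · simp only [TrivSqZeroExt.fst_add, TrivSqZeroExt.fst_inl, TrivSqZeroExt.fst_inr, map_one,
              TrivSqZeroExt.fst_one, add_zero]
          · simp only [TrivSqZeroExt.snd_add, TrivSqZeroExt.snd_inl, TrivSqZeroExt.snd_inr,
              Derivation.map_one_eq_zero, TrivSqZeroExt.snd_one, add_zero]
        map_mul' := fun a b => by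
          ext
          · simp only [TrivSqZeroExt.fst_mul, TrivSqZeroExt.fst_add, TrivSqZeroExt.fst_inl, TrivSqZeroExt.fst_inr,
              map_mul, add_zero]
          · simp only [TrivSqZeroExt.snd_mul, TrivSqZeroExt.fst_add, TrivSqZeroExt.fst_inl, TrivSqZeroExt.fst_inr,
              TrivSqZeroExt.snd_add, TrivSqZeroExt.snd_inl, TrivSqZeroExt.snd_inr, Derivation.leibniz,
              Algebra.smul_def, IsLocalRing.ResidueField.algebraMap_eq, MulOpposite.smul_eq_mul_unop,
              MulOpposite.unop_op, smul_eq_mul, add_zero, zero_add]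
            simp [κ, IsLocalRing.ResidueField.algebraMap_eq]
            ring
        map_zero' := by
          ext
          · simp only [TrivSqZeroExt.fst_add, TrivSqZeroExt.fst_inl, TrivSqZeroExt.fst_inr, map_zero,
              TrivSqZeroExt.fst_zero, add_zero]
          · simp only [TrivSqZeroExt.snd_add, TrivSqZeroExt.snd_inl, TrivSqZeroExt.snd_inr, map_zero,
              TrivSqZeroExt.snd_zero, add_zero]
        map_add' := fun a b => by
          ext
          · simp only [TrivSqZeroExt.fst_add, TrivSqZeroExt.fst_inl, TrivSqZeroExt.fst_inr, map_add, add_zero]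
          · simp only [TrivSqZeroExt.snd_add, TrivSqZeroExt.snd_inl, TrivSqZeroExt.snd_inr, map_add, zero_add] }
    let I : Ideal A' := maximalIdeal A'
    have hI : I * maximalIdeal A' = ⊥ := by
      show maximalIdeal (DualNumber κ) * maximalIdeal (DualNumber κ) = ⊥
      rw [DualNumber.maximalIdeal_eq_span_singleton_eps, Ideal.span_singleton_mul_span_singleton,
        DualNumber.eps_mul_eps, Ideal.span_singleton_eq_bot]
    have hmem : ∀ z : A', TrivSqZeroExt.fst z = 0 → z ∈ I := fun z hz => by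
      rw [IsLocalRing.mem_maximalIdeal]
      intro hu
      exact not_isUnit_zero (M₀ := κ) (hz ▸ TrivSqZeroExt.isUnit_iff_isUnit_fst.1 hu)
    haveI : IsLocalHom (g₁.comp (algebraMap O O')) := ⟨fun a ha => by
      refine (isUnit_map_iff (algebraMap O O') a).1 ?_
      have h1 := TrivSqZeroExt.isUnit_iff_isUnit_fst.1 ha
      exact (isUnit_map_iff (residue O') _).1 (by simpa [g₁] using h1)⟩
    have he := H A' (g₁.comp (algebraMap O O')) I (maximalIdeal.isMaximal A').ne_top hI g₁ g₂ rfl
      (RingHom.ext fun a => by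
        ext <;> simp [g₁, g₂, d.map_algebraMap])
      (RingHom.ext fun b => Ideal.Quotient.eq.2 (hmem _ (show TrivSqZeroExt.fst (TrivSqZeroExt.inl (residue O' b) - (TrivSqZeroExt.inl (residue O' b) + TrivSqZeroExt.inr (d b))) = 0 by rw [TrivSqZeroExt.fst_sub, TrivSqZeroExt.fst_add, TrivSqZeroExt.fst_inl, TrivSqZeroExt.fst_inr, add_zero, sub_self])))
      (fun b hb => Ideal.mem_map_of_mem _ (hmem _ (by simp [g₁, (residue_eq_zero_iff b).2 hb])))
      (fun a' => by
        obtain ⟨b, hb⟩ := residue_surjective (TrivSqZeroExt.fst a')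
        refine ⟨b, ?_⟩
        rw [← map_sub]
        exact Ideal.mem_map_of_mem _ (hmem _ (show TrivSqZeroExt.fst (TrivSqZeroExt.inl (residue O' b) - a') = 0 by
          rw [TrivSqZeroExt.fst_sub, TrivSqZeroExt.fst_inl, hb, sub_self])))
    ext b
    have := congrArg (fun g : O' →+* A' => TrivSqZeroExt.snd (g b)) he
    simpa [g₁, g₂] using this.symm
  refine ⟨?_⟩
  rw [← IsLocalRing.subsingleton_tensorProduct (R := O') (M := Ω[O'⁄O])]
  refine subsingleton_of_forall_eq 0 fun z => (Module.forall_dual_apply_eq_zero_iff κ z).1 fun ℓ => ?_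
  let ℓ' : Ω[O'⁄O] →ₗ[O'] κ := (ℓ.restrictScalars O').comp (TensorProduct.mk O' κ Ω[O'⁄O] 1)
  have h0 : ℓ' = 0 := by
    apply (KaehlerDifferential.linearMapEquivDerivation O O').injective
    rw [map_zero]; exact hder _
  obtain ⟨w, rfl⟩ := TensorProduct.mk_surjective O' Ω[O'⁄O] κ residue_surjective z
  exact LinearMap.congr_fun h0 w

variable {X Y : Scheme.{u}} (f : X ⟶ Y) [LocallyOfFiniteType f] (x : X)

theorem mem_smoothLocus_of_lifts [IsLocallyNoetherian Y] [LocallyOfFinitePresentation f]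
    (H : Lifts (f.stalkMap x).hom) : x ∈ f.smoothLocus := by
  obtain ⟨U, hU, hxU, -⟩ := exists_isAffineOpen_mem_and_subset (X := Y) (x := f x) (U := ⊤) trivial
  obtain ⟨V, hV, hxV, hVU⟩ := exists_isAffineOpen_mem_and_subset (X := X) (x := x) (U := f ⁻¹ᵁ U) hxU
  haveI : IsNoetherianRing Γ(Y, U) := IsLocallyNoetherian.component_noetherian ⟨U, hU⟩
  have hft := f.finiteType_appLE hU hV hVU
  rw [Scheme.Hom.mem_smoothLocus, formallySmooth_stalkMap_iff U hU V hV hVU hxV]
  let := (f.appLE U V hVU).hom.toAlgebra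
  haveI : Algebra.FiniteType Γ(Y, U) Γ(X, V) := hft
  let p := (hU.primeIdealOf ⟨f x, hVU hxV⟩).asIdeal
  let q := (hV.primeIdealOf ⟨x, hxV⟩).asIdeal
  haveI : q.LiesOver p :=
    ⟨congr($(IsAffineOpen.comap_primeIdealOf_appLE U hU V hV hVU hxV).1).symm⟩
  let := Localization.AtPrime.algebraOfLiesOver p q
  haveI : IsLocalHom (algebraMap (Localization.AtPrime p) (Localization.AtPrime q)) :=
    Localization.isLocalHom_localRingHom p q _ (q.over_def p)
  haveI : IsNoetherianRing Γ(X, V) := Algebra.FiniteType.isNoetherianRing Γ(Y, U) Γ(X, V)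
  haveI : IsNoetherianRing (Localization.AtPrime q) := IsLocalization.isNoetherianRing q.primeCompl _ inferInstance
  haveI : Algebra.FormallySmooth Γ(Y, U) (Localization.AtPrime p) := .of_isLocalization p.primeCompl
  let i := IsAffineOpen.arrowStalkMapIso f U hU V hV hVU hxV
  refine AdicSmooth.isSmoothAt_of_isAdicFormallySmooth q
    (AdicSmooth.trans_discrete (Λ := Γ(Y, U)) (A := Localization.AtPrime p) _
      (AdicSmooth.isAdicFormallySmooth_of_smallLifts (smallLifts_of_iso (f.stalkMap x).hom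
        ((Arrow.leftFunc.mapIso i).commRingCatIsoToRingEquiv)
        ((Arrow.rightFunc.mapIso i).commRingCatIsoToRingEquiv) (fun a => ?_) H)))
  exact (ConcreteCategory.congr_hom i.hom.w a).symm

theorem exists_formallyUnramified_of_liftsUnique (H : LiftsUnique (f.stalkMap x).hom) :
    (f.stalkMap x).hom.FormallyUnramified := by
  algebraize [(f.stalkMap x).hom]
  haveI : Algebra.EssFiniteType (Y.presheaf.stalk (f x)) (X.presheaf.stalk x) := LocallyOfFiniteType.stalkMap f x
  haveI : IsLocalHom (algebraMap (Y.presheaf.stalk (f x)) (X.presheaf.stalk x)) :=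
    inferInstanceAs <| IsLocalHom (f.stalkMap x).hom
  exact formallyUnramified_of_liftsUnique H

end Groth.Agent.ArtinCrit5
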